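import Mathlib

set_option autoImplicit false
universe u
open TensorProduct

namespace Groth.Agent.RelFP3

/-- `M` is finitely presented over `P` through `φ : P → A`. -/
abbrev Via {P A : Type u} [CommRing P] [CommRing A] (φ : P →+* A) (M : Type u) [AddCommGroup M]
    [Module A M] : Prop :=
  @Module.FinitePresentation P M _ _ (Module.compHom M φ)

lemma fp_iff_of_fp (P S M : Type u) [CommRing P] [CommRing S] [Algebra P S]
    [Module.FinitePresentation P S] [AddCommGroup M] [Module P M] [Module S M] [IsScalarTower P S M] :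
    Module.FinitePresentation P M ↔ Module.FinitePresentation S M := by
  refine ⟨fun _ => ?_, fun _ => Module.FinitePresentation.trans P M S⟩
  have : Module.Finite S M := Module.Finite.of_restrictScalars_finite P S M
  obtain ⟨n, π, hπ⟩ := Module.Finite.exists_fin' S M
  have h := Module.FinitePresentation.fg_ker (π.restrictScalars P) hπ
  rw [LinearMap.ker_restrictScalars] at h
  exact Module.finitePresentation_of_surjective π hπ (Submodule.FG.of_restrictScalars (R := P) h)

variable {R : Type u} [CommRing R] {A : Type u} [CommRing A]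
  {M : Type u} [AddCommGroup M] [Module A M]

lemma via_comp {P S : Type u} [CommRing P] [CommRing S] [Algebra P S] [Module.FinitePresentation P S]
    (φ : S →+* A) : Via (φ.comp (algebraMap P S)) M ↔ Via φ M := by
  let := Module.compHom M φ
  let := Module.compHom M (φ.comp (algebraMap P S))
  have : IsScalarTower P S M := IsScalarTower.of_algebraMap_smul fun _ _ => rfl
  exact fp_iff_of_fp P S M

lemma via_comp_of_surjective {P S : Type u} [CommRing P] [CommRing S] (ψ : P →+* S)
    (hψ : Function.Surjective ψ) (hker : (RingHom.ker ψ).FG) (φ : S →+* A) :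
    Via (φ.comp ψ) M ↔ Via φ M := by
  let := ψ.toAlgebra
  have : Module.FinitePresentation P S :=
    Module.finitePresentation_of_surjective (Algebra.linearMap P S) hψ hker
  exact via_comp φ

section indep

variable [Algebra R A]

lemma via_comp_algHom {P S : Type u} [CommRing P] [CommRing S] [Algebra R P] [Algebra R S]
    [Algebra.FinitePresentation R P] [Algebra.FinitePresentation R S] (ψ : P →ₐ[R] S)
    (hψ : Function.Surjective ψ) (φ : S →ₐ[R] A) :
    Via (φ.comp ψ).toRingHom M ↔ Via φ.toRingHom M :=
  via_comp_of_surjective ψ.toRingHom hψ (Algebra.FinitePresentation.ker_fG_of_surjective ψ hψ)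
    φ.toRingHom

lemma indep_poly {n k : ℕ} (α : MvPolynomial (Fin n) R →ₐ[R] A) (hα : Function.Surjective α)
    (β : MvPolynomial (Fin k) R →ₐ[R] A) :
    Via (MvPolynomial.aeval (R := R) (Sum.elim (fun i => α (MvPolynomial.X i))
      (fun j => β (MvPolynomial.X j)))).toRingHom M ↔ Via α.toRingHom M := by
  choose g hg using fun j => hα (β (MvPolynomial.X j))
  let ψ : MvPolynomial (Fin n ⊕ Fin k) R →ₐ[R] MvPolynomial (Fin n) R :=
    MvPolynomial.aeval (Sum.elim MvPolynomial.X g)
  have hψ : Function.Surjective ψ := fun p => ⟨MvPolynomial.rename Sum.inl p, by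
    show MvPolynomial.aeval _ _ = p
    rw [MvPolynomial.aeval_rename, Sum.elim_comp_inl]
    exact MvPolynomial.aeval_X_left_apply p⟩
  have e : α.comp ψ = MvPolynomial.aeval (R := R) (Sum.elim (fun i => α (MvPolynomial.X i))
      (fun j => β (MvPolynomial.X j))) := by
    refine MvPolynomial.algHom_ext fun i => ?_
    cases i <;> simp [ψ, hg]
  rw [← e]
  exact via_comp_algHom ψ hψ α

/-- Finite presentation relative to `R` does not depend on the presentation. -/
theorem indep {P Q : Type u} [CommRing P] [CommRing Q] [Algebra R P] [Algebra R Q]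
    [Algebra.FinitePresentation R P] [Algebra.FinitePresentation R Q] (α : P →ₐ[R] A)
    (hα : Function.Surjective α) (β : Q →ₐ[R] A) (hβ : Function.Surjective β) :
    Via α.toRingHom M ↔ Via β.toRingHom M := by
  obtain ⟨n, π, hπ, -⟩ := Algebra.FinitePresentation.out (R := R) (A := P)
  obtain ⟨k, ρ, hρ, -⟩ := Algebra.FinitePresentation.out (R := R) (A := Q)
  rw [← via_comp_algHom π hπ α, ← via_comp_algHom ρ hρ β]
  let α' := α.comp π
  let β' := β.comp ρ
  have h1 := indep_poly (M := M) α' (hα.comp hπ) β'
  have h2 := indep_poly (M := M) β' (hβ.comp hρ) α'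
  let σ := MvPolynomial.renameEquiv R (Equiv.sumComm (Fin k) (Fin n))
  have e : (MvPolynomial.aeval (R := R) (Sum.elim (fun i => α' (MvPolynomial.X i))
      (fun j => β' (MvPolynomial.X j)))).comp σ.toAlgHom =
      MvPolynomial.aeval (R := R) (Sum.elim (fun i => β' (MvPolynomial.X i))
        (fun j => α' (MvPolynomial.X j))) := by
    refine MvPolynomial.algHom_ext fun i => ?_
    cases i <;> simp [σ]
  rw [← e, via_comp_algHom σ.toAlgHom σ.surjective] at h2
  exact h1.symm.trans h2

end indep

lemma fp_of_via {P : Type u} [CommRing P] (φ : P →+* A) (hφ : Function.Surjective φ)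
    (h : Via φ M) : Module.FinitePresentation A M := by
  let := φ.toAlgebra
  let := Module.compHom M φ
  have : IsScalarTower P A M := IsScalarTower.of_algebraMap_smul fun _ _ => rfl
  have hb : IsBaseChange A (LinearMap.id : M →ₗ[P] M) := .of_lift_unique _ fun Q _ _ _ _ g => by
    refine ⟨{ g with map_smul' := fun a x => ?_ }, rfl, fun g' hg' => ?_⟩
    · obtain ⟨p, rfl⟩ := hφ a
      show g (φ p • x) = algebraMap P A p • g x
      rw [algebraMap_smul A p (g x), ← map_smul g p x]
      rfl
    · exact LinearMap.ext fun x => LinearMap.congr_fun hg' x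
  exact FinitePresentation.of_isBaseChange _ hb

section localization

lemma isLocalizedModule_via {P : Type u} [CommRing P] [Module P M] (φ : P →+* A) (g : P)
    (hPM : ∀ (p : P) (x : M), p • x = φ p • x) {M' : Type u} [AddCommGroup M'] [Module A M']
    [Module P M'] (hPM' : ∀ (p : P) (x : M'), p • x = φ p • x) (ι : M →ₗ[P] M') (ιA : M →ₗ[A] M')
    (hι : ∀ x, ι x = ιA x) [IsLocalizedModule (Submonoid.powers (φ g)) ιA] :
    IsLocalizedModule (Submonoid.powers g) ι := by
  have hmem : ∀ s : Submonoid.powers g, φ s ∈ Submonoid.powers (φ g) := by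
    rintro ⟨_, n, rfl⟩
    exact ⟨n, (map_pow φ g n).symm⟩
  refine ⟨fun s => ?_, fun y => ?_, fun {x y} h => ?_⟩
  · have := (Module.End.isUnit_iff _).mp
      (IsLocalizedModule.map_units (S := Submonoid.powers (φ g)) (f := ιA) ⟨φ s, hmem s⟩)
    rw [Module.End.isUnit_iff]
    convert this using 1
    exact funext fun x => hPM' s x
  · obtain ⟨⟨x, ⟨_, n, rfl⟩⟩, hx⟩ := IsLocalizedModule.surj (Submonoid.powers (φ g)) ιA y
    refine ⟨⟨x, ⟨g ^ n, n, rfl⟩⟩, ?_⟩
    rw [Submonoid.smul_def] at hx ⊢
    rw [hPM', map_pow, hι]
    exact hx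
  · rw [hι, hι] at h
    obtain ⟨⟨_, n, rfl⟩, hn⟩ := IsLocalizedModule.exists_of_eq (S := Submonoid.powers (φ g)) h
    refine ⟨⟨g ^ n, n, rfl⟩, ?_⟩
    rw [Submonoid.smul_def] at hn ⊢
    rw [Submonoid.smul_def, hPM, hPM, map_pow]
    exact hn

/-- Transport of finite presentation between `M_g` over `P_g` and `M_f` through `P_g → A_f`. -/
lemma via_away_iff {P : Type u} [CommRing P] [Algebra P A] [Module P M] [IsScalarTower P A M] (g : P)
    (f : A) (hf : algebraMap P A g = f) (φ' : Localization.Away g →+* Localization.Away f)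
    (hφ' : ∀ p, φ' (algebraMap P _ p) = algebraMap A _ (algebraMap P A p)) :
    Via φ' (LocalizedModule (Submonoid.powers f) M) ↔
      Module.FinitePresentation (Localization.Away g) (LocalizedModule (Submonoid.powers g) M) := by
  subst hf
  let f := algebraMap P A g
  let M' := LocalizedModule (Submonoid.powers f) M
  let : Module (Localization.Away g) M' := Module.compHom M' φ'
  have : IsScalarTower P (Localization.Away g) M' := IsScalarTower.of_algebraMap_smul fun p x => by
    show φ' (algebraMap P _ p) • x = p • x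
    rw [hφ', algebraMap_smul, algebraMap_smul]
  let ι : M →ₗ[P] M' := (LocalizedModule.mkLinearMap (Submonoid.powers f) M).restrictScalars P
  have : IsLocalizedModule (Submonoid.powers g) ι :=
    isLocalizedModule_via (algebraMap P A) g (fun p x => (algebraMap_smul A p x).symm)
      (fun p x => (algebraMap_smul A p x).symm) ι (LocalizedModule.mkLinearMap (Submonoid.powers f) M)
      fun _ => rfl
  exact ((IsLocalizedModule.iso (Submonoid.powers g) ι).extendScalarsOfIsLocalization
    (Submonoid.powers g) (Localization.Away g)).symm.finitePresentation_iff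

end localization

/-- Finite presentation is local on the base ring. -/
theorem fp_of_localizationSpan {P N : Type u} [CommRing P] [AddCommGroup N] [Module P N]
    (t : Finset P) (ht : Ideal.span (t : Set P) = ⊤)
    (H : ∀ g : t, Module.FinitePresentation (Localization.Away g.val)
      (LocalizedModule (Submonoid.powers g.val) N)) : Module.FinitePresentation P N := by
  have : Module.Finite P N := Module.Finite.of_localizationSpan_finite t ht
    fun g => have := H g; inferInstance
  obtain ⟨n, π, hπ⟩ := Module.Finite.exists_fin' P N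
  refine Module.finitePresentation_of_surjective π hπ (Module.Finite.iff_fg.mp
    (Module.Finite.of_localizationSpan_finite t ht fun g => ?_))
  have := H g
  let S := Submonoid.powers g.val
  let πg := LocalizedModule.map S π
  let κ := LocalizedModule.map S (LinearMap.ker π).subtype
  have hfg : (LinearMap.ker πg).FG :=
    Module.FinitePresentation.fg_ker πg (LocalizedModule.map_surjective S π hπ)
  have hex : Function.Exact κ πg :=
    LocalizedModule.map_exact S _ _ (LinearMap.exact_subtype_ker_map π)
  rw [LinearMap.exact_iff.mp hex] at hfg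
  have : Module.Finite (Localization.Away g.val) (LinearMap.range κ) := Module.Finite.iff_fg.mpr hfg
  exact Module.Finite.equiv (LinearEquiv.ofInjective κ
    (LocalizedModule.map_injective S _ (Submodule.subtype_injective _))).symm

lemma isUnit_away [Algebra R A] {P : Type u} [CommRing P] [Algebra R P] (φ : P →ₐ[R] A) (g : P) (f : A)
    (hf : φ g = f) : IsUnit (((algebraMap A (Localization.Away f)).comp φ.toRingHom) g) := by
  show IsUnit (algebraMap A (Localization.Away f) (φ g))
  rw [hf]
  exact IsLocalization.Away.algebraMap_isUnit f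

/-- The map `P_g → A_f`. -/
noncomputable def awayMap [Algebra R A] {P : Type u} [CommRing P] [Algebra R P] (φ : P →ₐ[R] A) (g : P) (f : A)
    (hf : φ g = f) : Localization.Away g →ₐ[R] Localization.Away f :=
  let h := isUnit_away φ g f hf
  { IsLocalization.Away.lift g h with
    commutes' := fun r => by
      show IsLocalization.Away.lift g h (algebraMap R (Localization.Away g) r) = _
      rw [IsScalarTower.algebraMap_apply R P (Localization.Away g), IsLocalization.Away.lift_eq,
        RingHom.comp_apply]
      show algebraMap A _ (φ (algebraMap R P r)) = _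
      rw [φ.commutes, ← IsScalarTower.algebraMap_apply] }

lemma awayMap_algebraMap [Algebra R A] {P : Type u} [CommRing P] [Algebra R P] (φ : P →ₐ[R] A) (g : P)
    (f : A) (hf : φ g = f) (p : P) :
    awayMap φ g f hf (algebraMap P _ p) = algebraMap A _ (φ p) :=
  IsLocalization.Away.lift_eq g (isUnit_away φ g f hf) p

lemma awayMap_surjective [Algebra R A] {P : Type u} [CommRing P] [Algebra R P] (φ : P →ₐ[R] A) (g : P)
    (f : A) (hf : φ g = f) (hφ : Function.Surjective φ) : Function.Surjective (awayMap φ g f hf) := by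
  intro y
  obtain ⟨⟨a, ⟨_, n, rfl⟩⟩, hy⟩ := IsLocalization.surj (Submonoid.powers f) y
  obtain ⟨p, rfl⟩ := hφ a
  refine ⟨IsLocalization.mk' (Localization.Away g) p (⟨g ^ n, n, rfl⟩ : Submonoid.powers g), ?_⟩
  have h1 := congrArg (awayMap φ g f hf)
    (IsLocalization.mk'_spec (Localization.Away g) p (⟨g ^ n, n, rfl⟩ : Submonoid.powers g))
  rw [map_mul, awayMap_algebraMap, awayMap_algebraMap, map_pow, hf, ← hy] at h1
  exact (IsLocalization.map_units (Localization.Away f)
    (⟨f ^ n, n, rfl⟩ : Submonoid.powers f)).mul_left_injective h1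

/-- Finite presentation relative to `R` passes to `A_f`. -/
theorem via_away [Algebra R A] {P : Type u} [CommRing P] [Algebra R P] (φ : P →ₐ[R] A) (g : P)
    (f : A) (hf : φ g = f) (h : Via φ.toRingHom M) :
    Via (awayMap φ g f hf).toRingHom (LocalizedModule (Submonoid.powers f) M) := by
  let := φ.toRingHom.toAlgebra
  let := Module.compHom M φ.toRingHom
  have : IsScalarTower P A M := IsScalarTower.of_algebraMap_smul fun _ _ => rfl
  rw [via_away_iff g f hf _ (awayMap_algebraMap φ g f hf)]
  exact inferInstanceAs (Module.FinitePresentation (Localization (Submonoid.powers g)) _)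

/-- Relative finite presentation is local on the target. -/
theorem via_of_cover [Algebra R A] {P : Type u} [CommRing P] [Algebra R P] (φ : P →ₐ[R] A)
    (hφ : Function.Surjective φ) {ι : Type} [Fintype ι] (g : ι → P) (f : ι → A)
    (hgf : ∀ i, φ (g i) = f i) (hf : Ideal.span (Set.range f) = ⊤)
    (H : ∀ i, Via (awayMap φ (g i) (f i) (hgf i)).toRingHom
      (LocalizedModule (Submonoid.powers (f i)) M)) : Via φ.toRingHom M := by
  classical
  let := φ.toRingHom.toAlgebra
  let := Module.compHom M φ.toRingHom
  have : IsScalarTower P A M := IsScalarTower.of_algebraMap_smul fun _ _ => rfl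
  obtain ⟨c, hc⟩ := (Ideal.mem_span_range_iff_exists_fun (R := A)).mp (hf ▸ Submodule.mem_top : (1 : A) ∈ _)
  choose c' hc' using fun i => hφ (c i)
  let h := 1 - ∑ i, c' i * g i
  have hh : φ h = 0 := by simp [h, hgf, hc', hc]
  refine fp_of_localizationSpan (insert h (Finset.univ.image g)) ?_ fun x => ?_
  · rw [Ideal.eq_top_iff_one, show (1 : P) = h + ∑ i, c' i * g i by simp [h]]
    exact add_mem (Ideal.subset_span (by simp)) (sum_mem fun i _ =>
      Ideal.mul_mem_left _ _ (Ideal.subset_span (by simp)))
  rcases Finset.mem_insert.mp x.2 with hx | hx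
  · have : Subsingleton (LocalizedModule (Submonoid.powers x.val) M) := by
      rw [LocalizedModule.subsingleton_iff]
      exact fun m => ⟨x.val, Submonoid.mem_powers _, show φ x.val • m = 0 by rw [hx, hh, zero_smul]⟩
    infer_instance
  · obtain ⟨i, -, hi⟩ := Finset.mem_image.mp hx
    rw [← hi, ← via_away_iff (g i) (f i) (hgf i) _ (awayMap_algebraMap φ (g i) (f i) (hgf i))]
    exact H i

/-- Base change along a presentation: `S ⊗_P M ≅ A' ⊗_A M`. -/
theorem via_tensor {P S A' : Type u} [CommRing P] [CommRing S] [CommRing A'] [Algebra P S]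
    [Algebra A A'] (π : P →+* A) (hπ : Function.Surjective π) (ψ : S →+* A')
    (hψ : Function.Surjective ψ) (hc : ∀ p, ψ (algebraMap P S p) = algebraMap A A' (π p))
    (hker : RingHom.ker ψ = (RingHom.ker π).map (algebraMap P S)) (h : Via π M) :
    Via ψ (A' ⊗[A] M) := by
  let := Module.compHom M π
  let : Module S (A' ⊗[A] M) := Module.compHom _ ψ
  let : Module P (A' ⊗[A] M) := Module.compHom _ (ψ.comp (algebraMap P S))
  have : IsScalarTower P S (A' ⊗[A] M) := IsScalarTower.of_algebraMap_smul fun _ _ => rfl
  let b : M →ₗ[P] A' ⊗[A] M :=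
    { toFun := fun m => 1 ⊗ₜ m
      map_add' := fun x y => tmul_add _ _ _
      map_smul' := fun p m => by
        show (1 : A') ⊗ₜ[A] (π p • m) = ψ (algebraMap P S p) • ((1 : A') ⊗ₜ[A] m)
        rw [hc, algebraMap_smul, tmul_smul] }
  let F : S ⊗[P] M →ₗ[S] A' ⊗[A] M := b.liftBaseChange S
  have hF : ∀ s m, F (s ⊗ₜ m) = ψ s ⊗ₜ[A] m := fun s m => by
    show s • b m = _
    show ψ s • ((1 : A') ⊗ₜ[A] m) = _
    rw [smul_tmul', smul_eq_mul, mul_one]
  have hkill : ∀ k ∈ RingHom.ker ψ, ∀ m : M, k ⊗ₜ[P] m = 0 := by
    intro k hk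
    rw [hker] at hk
    induction hk using Submodule.span_induction with
    | mem x hx =>
      obtain ⟨p, hp, rfl⟩ := hx
      intro m
      rw [Algebra.algebraMap_eq_smul_one, smul_tmul, show p • m = π p • m from rfl,
        RingHom.mem_ker.mp hp, zero_smul, tmul_zero]
    | zero => simp
    | add x y _ _ hx hy => intro m; rw [add_tmul, hx, hy, add_zero]
    | smul s x _ hx =>
      intro m
      rw [← smul_tmul', hx m, smul_zero]
  have heq : ∀ s t, ψ s = ψ t → ∀ m : M, s ⊗ₜ[P] m = t ⊗ₜ[P] m := fun s t hst m => by
    rw [← sub_eq_zero, ← sub_tmul]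
    exact hkill _ (by rw [RingHom.mem_ker, map_sub, hst, sub_self]) m
  let σ := Function.surjInv hψ
  have hσ : ∀ a, ψ (σ a) = a := Function.surjInv_eq hψ
  let G : A' ⊗[A] M →+ S ⊗[P] M := TensorProduct.liftAddHom
    (AddMonoidHom.mk' (fun a => AddMonoidHom.mk' (fun m => σ a ⊗ₜ[P] m) (fun x y => tmul_add _ _ _))
      fun a a' => AddMonoidHom.ext fun m => by
        show σ (a + a') ⊗ₜ[P] m = σ a ⊗ₜ[P] m + σ a' ⊗ₜ[P] m
        rw [← add_tmul]
        exact heq _ _ (by rw [map_add, hσ, hσ, hσ]) m)
    fun r a m => by
      obtain ⟨p, rfl⟩ := hπ r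
      show σ (π p • a) ⊗ₜ[P] m = σ a ⊗ₜ[P] (π p • m)
      rw [show π p • m = p • m from rfl, ← smul_tmul]
      exact heq _ _ (by rw [hσ, Algebra.smul_def, Algebra.smul_def, map_mul, hc, hσ]) m
  have hGF : ∀ z, G (F z) = z := fun z => by
    induction z with
    | zero => simp
    | add a b ha hb => simp only [map_add, ha, hb]
    | tmul s m => rw [hF]; exact heq _ _ (hσ _) m
  have hFG : ∀ z, F (G z) = z := fun z => by
    induction z with
    | zero => simp
    | add a b ha hb => simp only [map_add, ha, hb]
    | tmul a m => show F (σ a ⊗ₜ[P] m) = _; rw [hF, hσ]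
  exact Module.FinitePresentation.of_equiv
    (LinearEquiv.ofBijective F ⟨Function.LeftInverse.injective hGF, fun z => ⟨_, hFG z⟩⟩)

end Groth.Agent.RelFP3

namespace Groth.Agent.RelFP3

lemma via_congr {P A B M : Type u} [CommRing P] [CommRing A] [CommRing B] [AddCommGroup M]
    [Module A M] [Module B M] (φ : P →+* A) (φ' : P →+* B)
    (h : ∀ (p : P) (m : M), φ p • m = φ' p • m) : Via φ M ↔ Via φ' M := by
  unfold Via
  rw [show (Module.compHom M φ : Module P M) = Module.compHom M φ' from Module.ext' _ _ h]

lemma away_finitePresentation {R P : Type u} [CommRing R] [CommRing P] [Algebra R P]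
    [Algebra.FinitePresentation R P] (g : P) : Algebra.FinitePresentation R (Localization.Away g) :=
  haveI : Algebra.FinitePresentation P (Localization.Away g) :=
    IsLocalization.Away.finitePresentation g
  Algebra.FinitePresentation.trans R P (Localization.Away g)

end Groth.Agent.RelFP3
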