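import Mathlib

set_option autoImplicit false
universe u

namespace Groth.Agent.RelFP3

lemma finite_quotient_span {P : Type u} [CommRing P] {k : ℕ} (p : Fin k → Polynomial P)
    (hp : ∀ j, (p j).Monic) :
    Module.Finite P (MvPolynomial (Fin k) P ⧸
      Ideal.span (Set.range fun j => Polynomial.aeval (MvPolynomial.X (R := P) j) (p j))) := by
  set J := Ideal.span (Set.range fun j => Polynomial.aeval (MvPolynomial.X (R := P) j) (p j))
  let m := Ideal.Quotient.mkₐ P J
  have hle : Algebra.adjoin P (Set.range fun j => m (MvPolynomial.X j)) ≤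
      integralClosure P (MvPolynomial (Fin k) P ⧸ J) := Algebra.adjoin_le (by
    rintro _ ⟨j, rfl⟩
    refine ⟨p j, hp j, ?_⟩
    rw [← Polynomial.aeval_def, Polynomial.aeval_algHom_apply]
    exact Ideal.Quotient.eq_zero_iff_mem.mpr (Ideal.subset_span ⟨j, rfl⟩))
  have htop : Algebra.adjoin P (Set.range fun j => m (MvPolynomial.X j)) = ⊤ := by
    rw [show (fun j => m (MvPolynomial.X j)) = m ∘ MvPolynomial.X from rfl, Set.range_comp,
      ← AlgHom.map_adjoin, MvPolynomial.adjoin_range_X, Algebra.map_top]
    exact (AlgHom.range_eq_top m).mpr (Ideal.Quotient.mkₐ_surjective P J)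
  have hfg : (Subalgebra.toSubmodule (Algebra.adjoin P (Set.range fun j => m (MvPolynomial.X j)))).FG :=
    fg_adjoin_of_finite (Set.finite_range _) fun x hx => hle (Algebra.subset_adjoin hx)
  rw [htop, Algebra.top_toSubmodule] at hfg
  exact ⟨hfg⟩

/-- A finite algebra is a quotient of a finite algebra of finite presentation. -/
theorem exists_finite_cover (P B : Type u) [CommRing P] [CommRing B] [Algebra P B] [Module.Finite P B]
    {k : ℕ} (b : Fin k → B) :
    ∃ (S : Type u) (_ : CommRing S) (_ : Algebra P S), Algebra.FinitePresentation P S ∧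
      Module.FinitePresentation P S ∧ ∃ σ : S →ₐ[P] B, ∀ j, ∃ s, σ s = b j := by
  choose p hp hpb using fun j => IsIntegral.of_finite P (b j)
  let J := Ideal.span (Set.range fun j => Polynomial.aeval (MvPolynomial.X (R := P) j) (p j))
  have := finite_quotient_span p hp
  have hfp : Algebra.FinitePresentation P (MvPolynomial (Fin k) P ⧸ J) :=
    Algebra.FinitePresentation.quotient (Submodule.fg_span (Set.finite_range _))
  have hle : J ≤ RingHom.ker (MvPolynomial.aeval b : MvPolynomial (Fin k) P →ₐ[P] B) := by
    refine Ideal.span_le.mpr ?_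
    rintro _ ⟨j, rfl⟩
    rw [SetLike.mem_coe, RingHom.mem_ker, ← Polynomial.aeval_algHom_apply, MvPolynomial.aeval_X]
    exact hpb j
  exact ⟨_, inferInstance, inferInstance, hfp,
    Module.FinitePresentation.of_finite_of_finitePresentation _ _,
    Ideal.Quotient.liftₐ J (MvPolynomial.aeval b) fun x hx => hle hx,
    fun j => ⟨Ideal.Quotient.mk J (MvPolynomial.X j), MvPolynomial.aeval_X b j⟩⟩

/-- A finitely presented `A`-algebra comes from a finitely presented algebra over a cover of `A`. -/
theorem exists_base_cover {P A : Type u} (A' : Type u) [CommRing P] [CommRing A] [CommRing A']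
    [Algebra A A'] [Algebra.FinitePresentation A A'] (π : P →+* A) (hπ : Function.Surjective π) :
    ∃ (S : Type u) (_ : CommRing S) (_ : Algebra P S), Algebra.FinitePresentation P S ∧
      ∃ ψ : S →+* A', Function.Surjective ψ ∧ (∀ p, ψ (algebraMap P S p) = algebraMap A A' (π p)) ∧
        RingHom.ker ψ = (RingHom.ker π).map (algebraMap P S) := by
  classical
  obtain ⟨l, q, hq, ⟨s, hs⟩⟩ := Algebra.FinitePresentation.out (R := A) (A := A')
  let μ : MvPolynomial (Fin l) P →+* MvPolynomial (Fin l) A := MvPolynomial.map π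
  have hμ : Function.Surjective μ := MvPolynomial.map_surjective _ hπ
  choose t ht using fun x : MvPolynomial (Fin l) A => hμ x
  let J : Ideal (MvPolynomial (Fin l) P) := Ideal.span ((s.image t : Finset _) : Set _)
  have hfp : Algebra.FinitePresentation P (MvPolynomial (Fin l) P ⧸ J) :=
    Algebra.FinitePresentation.quotient (Submodule.fg_span (Finset.finite_toSet _))
  have h2 : RingHom.ker q.toRingHom = J.map μ := by
    rw [Ideal.map_span, ← hs, ← Finset.coe_image, Finset.image_image]
    congr 2
    exact Finset.image_id.symm.trans (Finset.image_congr fun z _ => (ht z).symm)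
  have hle : J ≤ RingHom.ker (q.toRingHom.comp μ) := fun x hx => by
    have := Ideal.mem_map_of_mem μ hx
    rw [← h2] at this
    exact this
  let ψ : (MvPolynomial (Fin l) P ⧸ J) →+* A' :=
    Ideal.Quotient.lift J (q.toRingHom.comp μ) fun x hx => hle hx
  have hc : ∀ p, ψ (algebraMap P _ p) = algebraMap A A' (π p) := fun p => by
    show q (μ (MvPolynomial.C p)) = _
    rw [MvPolynomial.map_C]
    exact q.commutes (π p)
  refine ⟨_, inferInstance, inferInstance, hfp, ψ, fun y => ?_, hc, le_antisymm (fun x hx => ?_) ?_⟩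
  · obtain ⟨z, rfl⟩ := hq y
    exact ⟨Ideal.Quotient.mk J (t z), congrArg q (ht z)⟩
  · obtain ⟨x, rfl⟩ := Ideal.Quotient.mk_surjective x
    have h1 : x ∈ (RingHom.ker q.toRingHom).comap μ := hx
    rw [h2, Ideal.comap_map_of_surjective μ hμ, ← RingHom.ker_eq_comap_bot,
      MvPolynomial.ker_map] at h1
    have h3 := Ideal.mem_map_of_mem (Ideal.Quotient.mk J) h1
    rw [Ideal.map_sup, Ideal.map_quotient_self, bot_sup_eq, Ideal.map_map] at h3
    exact h3
  · refine Ideal.map_le_iff_le_comap.mpr fun p hp => ?_
    rw [Ideal.mem_comap, RingHom.mem_ker, hc, show π p = 0 from hp, map_zero]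

end Groth.Agent.RelFP3
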